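import Groth.Prelude.Def_W4bk4git07Quot
import Mathlib.AlgebraicGeometry.Gluing
import Mathlib.AlgebraicGeometry.PullbackCarrier

/-!
# Geometric quotients are categorical quotients
-/

set_option autoImplicit false

universe u

open CategoryTheory Limits AlgebraicGeometry MonoidalCategory CartesianMonoidalCategory TopologicalSpace

namespace Groth.Agent.GITQuot

variable {S : Scheme.{u}} {G X Y : Over S} [GrpObj G] {a : AlgGrp.Action G X} {φ : X ⟶ Y}

/-- A surjective morphism which is injective on functions over all opens is an epimorphism. -/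
theorem cancel_of_app_injective {A B C : Scheme.{u}} (f : A ⟶ B) (hs : Function.Surjective f.base)
    (hf : ∀ U : B.Opens, Function.Injective (f.app U)) {g g' : B ⟶ C} (e : f ≫ g = f ≫ g') : g = g' := by
  have hb : g.base = g'.base := by
    ext y
    obtain ⟨x, rfl⟩ := hs y
    have := congrArg (fun m : A ⟶ C => m.base x) e
    simpa [Scheme.Hom.comp_base] using this
  refine Scheme.Hom.ext hb fun U => ?_
  ext s
  apply hf
  have h := Scheme.Hom.congr_app e U
  rw [Scheme.Hom.comp_app, Scheme.Hom.comp_app] at h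
  have h' := ConcreteCategory.congr_hom h s
  simp only [CommRingCat.comp_apply] at h' ⊢
  have hn := fun {U₁ U₂ : B.Opens} (i : Opposite.op U₁ ⟶ Opposite.op U₂) (z : Γ(B, U₁)) =>
    ConcreteCategory.congr_hom (f.naturality i) z
  simp only [CommRingCat.comp_apply] at hn
  have key : ∀ {U₁ U₂ : A.Opens} (i : Opposite.op U₁ ⟶ Opposite.op U₂) (j : Opposite.op U₂ ⟶ Opposite.op U₁) (z : Γ(A, U₂)),
      A.presheaf.map i (A.presheaf.map j z) = z := fun i j z => by
    rw [← CommRingCat.comp_apply, ← Functor.map_comp, Subsingleton.elim (j ≫ i) (𝟙 _), CategoryTheory.Functor.map_id]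
    rfl
  exact (hn _ _).trans ((congrArg _ h').trans (key _ _ _))

theorem fibre_eq (h : GIT.IsGeomQuot a φ) {Z : Over S} (ψ : X ⟶ Z) (hψ : GIT.IsInvariant a ψ)
    {x₁ x₂ : X.left} (e : φ.left.base x₁ = φ.left.base x₂) : ψ.left.base x₁ = ψ.left.base x₂ := by
  obtain ⟨w, hw1, hw2⟩ := Scheme.Pullback.exists_preimage_pullback x₁ x₂ e
  obtain ⟨p, rfl⟩ := h.orbit w
  have e1 : (GIT.PsiY a φ h.inv ≫ pullback.fst φ.left φ.left).base p = a.act.left.base p :=
    congrArg (fun m : (G ⊗ X).left ⟶ X.left => m.base p) (pullback.lift_fst _ _ _)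
  have e2 : (GIT.PsiY a φ h.inv ≫ pullback.snd φ.left φ.left).base p = (snd G X).left.base p :=
    congrArg (fun m : (G ⊗ X).left ⟶ X.left => m.base p) (pullback.lift_snd _ _ _)
  rw [← hw1, ← hw2]
  refine (congrArg ψ.left.base ((Scheme.Hom.comp_apply _ _ _).symm.trans e1)).trans ?_
  refine Eq.trans ?_ (congrArg ψ.left.base ((Scheme.Hom.comp_apply _ _ _).symm.trans e2)).symm
  exact congrArg (fun m : (G ⊗ X).left ⟶ Z.left => m.base p) hψ.left

theorem isQuotientMap (h : GIT.IsGeomQuot a φ) : Topology.IsQuotientMap φ.left.base :=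
  MorphismProperty.universally_le _ _ h.subm

/-- Descent of an invariant morphism along a cover of the target by saturated pieces. -/
theorem existsUnique_desc_of_cover (hsurj : Function.Surjective φ.left.base)
    (hsec : ∀ U : Y.left.Opens,
      Function.Injective (φ.left.app U) ∧ Set.range (φ.left.app U) = {f | GIT.IsInvSection a φ U f})
    (Z : Over S) (ψ : X ⟶ Z) (hψ : GIT.IsInvariant a ψ) (V : Z.left.affineOpens → Y.left.Opens)
    (hV : ∀ W, φ.left ⁻¹ᵁ V W ≤ ψ.left ⁻¹ᵁ (W : Z.left.Opens)) (hcov : ⨆ W, V W = ⊤) :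
    ∃! χ : Y ⟶ Z, φ ≫ χ = ψ := by
  have hloc : ∀ W : Z.left.affineOpens, ∃ g : (V W).toScheme ⟶ Z.left,
      φ.left ∣_ V W ≫ g = (φ.left ⁻¹ᵁ V W).ι ≫ ψ.left := by
    intro W
    let F := φ.left.app (V W)
    let P := ψ.left.appLE (W : Z.left.Opens) (φ.left ⁻¹ᵁ V W) (hV W)
    have hrange : ∀ s, P s ∈ Set.range F := fun s => by
      rw [(hsec (V W)).2]
      show (P ≫ a.act.left.appLE _ _ _) s = (P ≫ (snd G X).left.appLE _ _ _) s
      rw [Scheme.Hom.appLE_comp_appLE, Scheme.Hom.appLE_comp_appLE]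
      simp only [hψ.left]
    let θ₀ := fun s => (hrange s).choose
    have hθ₀ : ∀ s, F (θ₀ s) = P s := fun s => (hrange s).choose_spec
    have hinj := (hsec (V W)).1
    let θ : Γ(Z.left, (W : Z.left.Opens)) ⟶ Γ(Y.left, V W) := CommRingCat.ofHom
      { toFun := θ₀
        map_one' := hinj (by rw [hθ₀, map_one, map_one])
        map_mul' := fun s t => hinj (by rw [hθ₀, map_mul, map_mul, hθ₀, hθ₀])
        map_zero' := hinj (by rw [hθ₀, map_zero, map_zero])
        map_add' := fun s t => hinj (by rw [hθ₀, map_add, map_add, hθ₀, hθ₀]) }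
    have hθ : θ ≫ F = P := by ext s; exact hθ₀ s
    refine ⟨(V W).toSpecΓ ≫ Spec.map θ ≫ W.2.fromSpec, ?_⟩
    rw [← Scheme.Opens.toSpecΓ_naturality_assoc, ← Spec.map_comp_assoc, hθ,
      Scheme.Opens.toSpecΓ_SpecMap_appLE_assoc]
    exact (congrArg (_ ≫ ·) W.2.toSpecΓ_fromSpec).trans (Scheme.Hom.resLE_comp_ι _ _)
  choose g hg using hloc
  let 𝒰 := Y.left.openCoverOfIsOpenCover V hcov
  have huniq : ∀ {T : Scheme.{u}} (U : Y.left.Opens) (g₁ g₂ : U.toScheme ⟶ T),
      φ.left ∣_ U ≫ g₁ = φ.left ∣_ U ≫ g₂ → g₁ = g₂ := fun U g₁ g₂ e =>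
    cancel_of_app_injective _ (fun y => by
      obtain ⟨x, hx⟩ := hsurj y.1
      refine ⟨⟨x, show φ.left.base x ∈ U by rw [hx]; exact y.2⟩, U.ι.isOpenEmbedding.injective ?_⟩
      exact (congrArg (fun m : (φ.left ⁻¹ᵁ U).toScheme ⟶ Y.left => m.base ⟨x, _⟩) (morphismRestrict_ι φ.left U)).trans hx)
      (fun O s t hst => by
      rw [morphismRestrict_app] at hst
      refine (hsec _).1 ?_
      simp only [CommRingCat.comp_apply] at hst
      haveI : IsIso (X.left.presheaf.map (eqToHom (image_morphismRestrict_preimage φ.left U O)).op) :=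
        inferInstanceAs (IsIso (X.left.presheaf.map (eqToIso (image_morphismRestrict_preimage φ.left U O)).op.hom))
      exact (ConcreteCategory.bijective_of_isIso
        (X.left.presheaf.map (eqToHom (image_morphismRestrict_preimage φ.left U O)).op)).1 hst) e
  have hg' : ∀ W, (φ.left ⁻¹ᵁ V W).ι ≫ ψ.left = φ.left ∣_ V W ≫ g W := fun W => (hg W).symm
  have hcompat : ∀ W₁ W₂ : Z.left.affineOpens, Y.left.homOfLE (inf_le_left : V W₁ ⊓ V W₂ ≤ V W₁) ≫ g W₁ =
      Y.left.homOfLE (inf_le_right : V W₁ ⊓ V W₂ ≤ V W₂) ≫ g W₂ := fun W₁ W₂ => by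
    refine huniq _ _ _ ?_
    have e : ∀ (U U' : Y.left.Opens) (hle : U ≤ U'),
        φ.left ∣_ U ≫ Y.left.homOfLE hle = X.left.homOfLE (φ.left.preimage_mono hle) ≫ φ.left ∣_ U' := fun U U' hle => by
      rw [← cancel_mono U'.ι]
      simp
    rw [← Category.assoc, ← Category.assoc, e, e, Category.assoc, Category.assoc, ← hg', ← hg']
    simp
  let χl : Y.left ⟶ Z.left := 𝒰.glueMorphisms g fun W₁ W₂ => by
    refine (cancel_epi (isPullback_opens_inf (V W₁) (V W₂)).isoPullback.hom).1 ?_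
    exact ((isPullback_opens_inf (V W₁) (V W₂)).isoPullback_hom_fst_assoc (g W₁)).trans
      ((hcompat W₁ W₂).trans ((isPullback_opens_inf (V W₁) (V W₂)).isoPullback_hom_snd_assoc (g W₂)).symm)
  have hχ : φ.left ≫ χl = ψ.left := by
    refine Scheme.Cover.hom_ext (X.left.openCoverOfIsOpenCover (fun W => φ.left ⁻¹ᵁ V W) ?_) _ _ fun W => ?_
    · rw [TopologicalSpace.IsOpenCover, ← Scheme.Hom.preimage_iSup, hcov]; rfl
    · exact (morphismRestrict_ι_assoc φ.left (V W) χl).symm.trans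
        ((congrArg (φ.left ∣_ V W ≫ ·) (𝒰.ι_glueMorphisms g _ W)).trans (hg' W).symm)
  have hepi : ∀ g₁ g₂ : Y.left ⟶ Z.left, φ.left ≫ g₁ = φ.left ≫ g₂ → g₁ = g₂ := fun g₁ g₂ e =>
    cancel_of_app_injective φ.left hsurj (fun O => (hsec O).1) e
  have hY : χl ≫ Z.hom = Y.hom := cancel_of_app_injective φ.left hsurj (fun O => (hsec O).1)
    (by rw [← Category.assoc, hχ, Over.w ψ, Over.w φ])
  refine ⟨Over.homMk χl hY, Over.OverMorphism.ext hχ, fun χ' hχ' => Over.OverMorphism.ext (hepi _ _ ?_)⟩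
  show φ.left ≫ χ'.left = φ.left ≫ χl
  rw [hχ, ← Over.comp_left, hχ']

theorem existsUnique_desc (h : GIT.IsGeomQuot a φ) (Z : Over S) (ψ : X ⟶ Z) (hψ : GIT.IsInvariant a ψ) :
    ∃! χ : Y ⟶ Z, φ ≫ χ = ψ := by
  choose sec hsec using h.surj
  let gb : Y.left → Z.left := fun y => ψ.left.base (sec y)
  have hgb : ∀ x, gb (φ.left.base x) = ψ.left.base x := fun x => fibre_eq h ψ hψ (hsec _)
  have hcont : Continuous gb :=
    (isQuotientMap h).continuous_iff.2 (by
      rw [show gb ∘ φ.left.base = ψ.left.base from funext hgb]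
      exact ψ.left.continuous)
  refine existsUnique_desc_of_cover h.surj h.sections Z ψ hψ
    (fun W => ⟨gb ⁻¹' (W : Z.left.Opens), W.1.2.preimage hcont⟩) (fun W x hx => ?_) (eq_top_iff.2 fun y _ => ?_)
  · show ψ.left.base x ∈ (W : Z.left.Opens)
    have hx' : gb (φ.left.base x) ∈ (W : Z.left.Opens) := hx
    rwa [hgb] at hx'
  · obtain ⟨W, hW, hy, -⟩ := exists_isAffineOpen_mem_and_subset (U := ⊤) (x := gb y) trivial
    exact Opens.mem_iSup.2 ⟨⟨W, hW⟩, hy⟩

theorem isCatQuot (h : GIT.IsGeomQuot a φ) : GIT.IsCatQuot a φ := ⟨h.inv, fun Z ψ hψ => existsUnique_desc h Z ψ hψ⟩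

end Groth.Agent.GITQuot
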