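import Groth.Agent.AlgGrpLib.ActionShear
import Groth.Agent.AlgGrpLib.MultTypeAction2
import Groth.Agent.SGA3cLib.DiagPoints
import Groth.Prelude.Def_W4bk4git07Quot

/-! Functions on universal categorical quotients. -/

universe u

set_option autoImplicit false
set_option backward.isDefEq.respectTransparency.types false
set_option maxHeartbeats 800000

open CategoryTheory CategoryTheory.Limits MonoidalCategory CartesianMonoidalCategory MonObj GrpObj AlgebraicGeometry

namespace Groth.Agent.GITQuot.UnivCat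

variable {S : Scheme.{u}} {G X Y : Over S} [GrpObj G] (a : AlgGrp.Action G X) (φ : X ⟶ Y)

theorem exists_induced (hinv : GIT.IsInvariant a φ) {X' Y' : Over S} (pr : X' ⟶ X) (φ' : X' ⟶ Y') (g : Y' ⟶ Y)
    (sq : IsPullback pr φ' φ g) :
    ∃ a' : AlgGrp.Action G X', a'.act ≫ pr = (G ◁ pr) ≫ a.act ∧ GIT.IsInvariant a' φ' := by
  have hc : ((G ◁ pr) ≫ a.act) ≫ φ = (snd G X' ≫ φ') ≫ g := by
    rw [Category.assoc, hinv, whiskerLeft_snd_assoc, Category.assoc, sq.w]
  let m := sq.lift ((G ◁ pr) ≫ a.act) (snd G X' ≫ φ') hc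
  have hm : ∀ {W : Over S} (c₁ : W ⟶ G) (x : W ⟶ X'),
      (lift c₁ x ≫ m) ≫ pr = lift c₁ (x ≫ pr) ≫ a.act ∧ (lift c₁ x ≫ m) ≫ φ' = x ≫ φ' := fun c₁ x => by
    refine ⟨?_, ?_⟩
    · rw [Category.assoc, sq.lift_fst, ← Category.assoc, lift_whiskerLeft]
    · rw [Category.assoc, sq.lift_snd, lift_snd_assoc]
  obtain ⟨a', ha'⟩ := Groth.Agent.AlgGrpLib.MultTypeAct.exists_action m (fun x => by
      refine sq.hom_ext ?_ ?_
      · rw [(hm _ x).1, Groth.Agent.AlgGrpLib.one_act']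
      · rw [(hm _ x).2])
    (fun c₁ c₂ x => by
      refine sq.hom_ext ?_ ?_
      · rw [(hm _ _).1, (hm _ _).1, (hm _ _).1, Groth.Agent.AlgGrpLib.act_act]
      · rw [(hm _ _).2, (hm _ _).2, (hm _ _).2])
  exact ⟨a', by rw [ha', sq.lift_fst], by rw [GIT.IsInvariant, ha', sq.lift_snd]⟩

theorem afterBaseChange_trans (hinv : GIT.IsUnivCatQuot a φ) {X' Y' : Over S} (pr : X' ⟶ X) (φ' : X' ⟶ Y')
    (g : Y' ⟶ Y) (sq : IsPullback pr φ' φ g) (a' : AlgGrp.Action G X') (ha : a'.act ≫ pr = (G ◁ pr) ≫ a.act)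
    (hi : GIT.IsInvariant a' φ') : GIT.IsUnivCatQuot a' φ' := by
  refine ⟨hinv.2 pr φ' g trivial sq a' ha hi, fun X'' Y'' pr' φ'' g' _ sq' a'' ha'' hi'' => ?_⟩
  refine hinv.2 (pr' ≫ pr) φ'' (g' ≫ g) trivial (sq'.paste_horiz sq) a'' ?_ hi''
  rw [reassoc_of% ha'', ha, MonoidalCategory.whiskerLeft_comp_assoc]

theorem surjective (h : GIT.IsUnivCatQuot a φ) : Function.Surjective φ.left.base := by
  intro y
  by_contra hy
  let Y' : Over S := Over.mk (Y.left.fromSpecResidueField y ≫ Y.hom)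
  let g : Y' ⟶ Y := Over.homMk (Y.left.fromSpecResidueField y) rfl
  have sq := IsPullback.of_hasPullback φ g
  let pr := pullback.fst φ g
  let φ' := pullback.snd φ g
  have hempty : IsEmpty (pullback φ g).left := ⟨fun p => hy ⟨pr.left p, by
    have e := congr($(congrArg CommaMorphism.left sq.w) p)
    simp only [Over.comp_left, Scheme.Hom.comp_apply] at e
    refine e.trans ?_
    exact Scheme.fromSpecResidueField_apply _ _⟩⟩
  obtain ⟨a', ha', hi'⟩ := exists_induced a φ h.1.1 pr φ' g sq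
  have hcat := h.2 pr φ' g trivial sq a' ha' hi'
  obtain ⟨s, hs⟩ := SGA3cLib.exists_gaFn (S := S) (X := Y') 0
  obtain ⟨t, ht⟩ := SGA3cLib.exists_gaFn (S := S) (X := Y') 1
  haveI := hempty
  haveI hsub : Subsingleton Γ((pullback φ g).left, ⊤) := inferInstance
  have e : φ' ≫ s = φ' ≫ t := SGA3cLib.gaFn_injective (hsub.elim _ _)
  have hst : s = t := (hcat.2 _ (φ' ≫ s) (by
    rw [GIT.IsInvariant, ← Category.assoc, hi', Category.assoc])).unique rfl e.symm
  rw [hst, ht] at hs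
  haveI : Nonempty Y'.left := inferInstanceAs (Nonempty (Spec _))
  haveI : Nonempty (⊤ : Y'.left.Opens) := ⟨⟨Classical.arbitrary Y'.left, trivial⟩⟩
  exact one_ne_zero hs

theorem topIso_appTop {A B : Scheme.{u}} (f : A ⟶ B) (U : B.Opens) (V : A.Opens) (e : V ≤ f ⁻¹ᵁ U)
    (x : Γ(↑U, ⊤)) : V.topIso.hom ((f.resLE U V e).appTop x) = f.appLE U V e (U.topIso.hom x) := by
  rw [← CommRingCat.comp_apply, ← CommRingCat.comp_apply]
  exact congrArg (fun h => h.hom x) (arrowResLEAppIso f U V e).hom.w.symm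

theorem app_injective_range (h : GIT.IsUnivCatQuot a φ) (U : Y.left.Opens) :
    Function.Injective (φ.left.app U) ∧ Set.range (φ.left.app U) = {f | GIT.IsInvSection a φ U f} := by
  set V := φ.left ⁻¹ᵁ U with hV
  set W := a.act.left ⁻¹ᵁ V ⊓ (snd G X).left ⁻¹ᵁ V with hW
  let X' : Over S := Over.mk (V.ι ≫ X.hom)
  let Y' : Over S := Over.mk (U.ι ≫ Y.hom)
  let g : Y' ⟶ Y := Over.homMk U.ι rfl
  let pr : X' ⟶ X := Over.homMk V.ι rfl
  let φ' : X' ⟶ Y' := Over.homMk (φ.left.resLE U V le_rfl) (by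
    show φ.left.resLE U V le_rfl ≫ U.ι ≫ Y.hom = V.ι ≫ X.hom
    rw [Scheme.Hom.resLE_comp_ι_assoc, Over.w φ])
  have sq : IsPullback pr φ' φ g := by
    refine IsPullback.of_map (Over.forget S) (Over.OverMorphism.ext (Scheme.Hom.resLE_comp_ι _ _).symm) ?_
    show IsPullback V.ι (φ.left.resLE U V le_rfl) φ.left U.ι
    rw [Scheme.Hom.resLE_eq_morphismRestrict]
    exact (isPullback_morphismRestrict φ.left U).flip
  obtain ⟨a', ha', hi'⟩ := exists_induced a φ h.1.1 pr φ' g sq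
  have hcat := h.2 pr φ' g trivial sq a' ha' hi'
  have e1 : a'.act.left ≫ V.ι = (G ◁ pr).left ≫ a.act.left := congrArg CommaMorphism.left ha'
  have e2 : (snd G X').left ≫ V.ι = (G ◁ pr).left ≫ (snd G X).left :=
    (congrArg CommaMorphism.left (whiskerLeft_snd G pr)).symm
  have hr : Set.range (G ◁ pr).left ⊆ (W : Set (G ⊗ X).left) := by
    rintro _ ⟨p, rfl⟩
    have h1 : ∀ q : V.toScheme, V.ι q ∈ V := fun q => q.2
    refine ⟨?_, ?_⟩
    · show a.act.left ((G ◁ pr).left p) ∈ V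
      rw [← Scheme.Hom.comp_apply, ← e1, Scheme.Hom.comp_apply]
      exact h1 _
    · show (snd G X).left ((G ◁ pr).left p) ∈ V
      rw [← Scheme.Hom.comp_apply, ← e2, Scheme.Hom.comp_apply]
      exact h1 _
  let w := IsOpenImmersion.lift W.ι (G ◁ pr).left (by rwa [Scheme.Opens.range_ι])
  have hw : w ≫ W.ι = (G ◁ pr).left := IsOpenImmersion.lift_fac _ _ _
  have f1 : a'.act.left = w ≫ a.act.left.resLE V W inf_le_left := by
    rw [← cancel_mono V.ι, e1, Category.assoc, Scheme.Hom.resLE_comp_ι, reassoc_of% hw]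
  have f2 : (snd G X').left = w ≫ (snd G X).left.resLE V W inf_le_right := by
    rw [← cancel_mono V.ι, e2, Category.assoc, Scheme.Hom.resLE_comp_ι, reassoc_of% hw]
  have happ : φ.left.app U = φ.left.appLE U V le_rfl := (Scheme.Hom.app_eq_appLE φ.left).trans rfl
  have hbij : ∀ {A : Scheme.{u}} (U : A.Opens), Function.Bijective U.topIso.hom.hom :=
    fun U => ConcreteCategory.bijective_of_isIso U.topIso.hom
  refine ⟨fun y y' e => ?_, Set.ext fun s => ⟨?_, fun hs => ?_⟩⟩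
  · obtain ⟨y, rfl⟩ := (hbij U).2 y
    obtain ⟨y', rfl⟩ := (hbij U).2 y'
    rw [happ, ← topIso_appTop, ← topIso_appTop] at e
    obtain ⟨s, hs⟩ := SGA3cLib.exists_gaFn (S := S) (X := Y') y
    obtain ⟨t, ht⟩ := SGA3cLib.exists_gaFn (S := S) (X := Y') y'
    have e' : φ' ≫ s = φ' ≫ t := SGA3cLib.gaFn_injective (by
      rw [SGA3cLib.gaFn_comp, SGA3cLib.gaFn_comp, hs, ht]; exact (hbij V).1 e)
    have hst : s = t := (hcat.2 _ (φ' ≫ s) (by
      rw [GIT.IsInvariant, ← Category.assoc, hi', Category.assoc])).unique rfl e'.symm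
    rw [← hs, hst, ht]
  · rintro ⟨y, rfl⟩
    show _ = _
    rw [happ, ← CommRingCat.comp_apply, ← CommRingCat.comp_apply, Scheme.Hom.appLE_comp_appLE,
      Scheme.Hom.appLE_comp_appLE]
    have hl : a.act.left ≫ φ.left = (snd G X).left ≫ φ.left := h.1.1.left
    have key : ∀ (m m' : (G ⊗ X).left ⟶ Y.left) (p : W ≤ m ⁻¹ᵁ U) (p' : W ≤ m' ⁻¹ᵁ U), m = m' →
        m.appLE U W p = m'.appLE U W p' := fun m m' p p' e => by subst e; rfl
    exact congrArg (fun r => r.hom y) (key _ _ _ _ hl)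
  · obtain ⟨s, rfl⟩ := (hbij V).2 s
    have hs' : a.act.left.appLE V W inf_le_left (V.topIso.hom s) =
        (snd G X).left.appLE V W inf_le_right (V.topIso.hom s) := hs
    rw [← topIso_appTop, ← topIso_appTop] at hs'
    obtain ⟨ψ, hψ⟩ := SGA3cLib.exists_gaFn (S := S) (X := X') s
    have hψi : GIT.IsInvariant a' ψ := SGA3cLib.gaFn_injective (by
      rw [SGA3cLib.gaFn_comp, SGA3cLib.gaFn_comp, hψ, f1, f2, Scheme.Hom.comp_appTop, Scheme.Hom.comp_appTop,
        CommRingCat.comp_apply, CommRingCat.comp_apply]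
      exact congrArg w.appTop.hom ((hbij W).1 hs'))
    obtain ⟨χ, hχ, -⟩ := hcat.2 _ ψ hψi
    refine ⟨U.topIso.hom (Red.gaFn χ), ?_⟩
    rw [happ, ← topIso_appTop]
    refine congrArg V.topIso.hom.hom ?_
    rw [← hψ, ← hχ, SGA3cLib.gaFn_comp]
    rfl

theorem psiY_surjective (hinv : GIT.IsInvariant a φ) (hs : Function.Surjective (GIT.PsiY a φ hinv).base)
    {X' Y' : Over S} (pr : X' ⟶ X) (φ' : X' ⟶ Y') (g : Y' ⟶ Y) (sq : IsPullback pr φ' φ g)
    (a' : AlgGrp.Action G X') (ha : a'.act ≫ pr = (G ◁ pr) ≫ a.act) (hi : GIT.IsInvariant a' φ') :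
    Function.Surjective (GIT.PsiY a' φ' hi).base := by
  intro z
  have hl : φ'.left ≫ g.left = pr.left ≫ φ.left := (congrArg CommaMorphism.left sq.w).symm
  let m : pullback φ'.left φ'.left ⟶ pullback φ.left φ.left :=
    pullback.map _ _ _ _ pr.left pr.left g.left hl hl
  obtain ⟨p, hp⟩ := hs (m z)
  obtain ⟨r, hr1, hr2⟩ := Scheme.Pullback.exists_preimage_pullback (f := GIT.PsiY a φ hinv) (g := m) p z hp
  let R₁ := pullback.fst (GIT.PsiY a φ hinv) m
  let R₂ := pullback.snd (GIT.PsiY a φ hinv) m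
  let T : Over S := Over.mk (R₁ ≫ (G ⊗ X).hom)
  let P : T ⟶ G ⊗ X := Over.homMk R₁ rfl
  have hc : R₁ ≫ GIT.PsiY a φ hinv = R₂ ≫ m := pullback.condition
  have hsnd : R₁ ≫ (snd G X).left = (R₂ ≫ pullback.snd φ'.left φ'.left) ≫ pr.left := by
    have e := congrArg (· ≫ pullback.snd φ.left φ.left) hc
    simp only [GIT.PsiY, m, Category.assoc, pullback.lift_snd, pullback.map] at e
    rw [Category.assoc]; exact e
  have hfst : R₁ ≫ a.act.left = (R₂ ≫ pullback.fst φ'.left φ'.left) ≫ pr.left := by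
    have e := congrArg (· ≫ pullback.fst φ.left φ.left) hc
    simp only [GIT.PsiY, m, Category.assoc, pullback.lift_fst, pullback.map] at e
    rw [Category.assoc]; exact e
  let x₂ : T ⟶ X' := Over.homMk (R₂ ≫ pullback.snd φ'.left φ'.left) (by
    show (R₂ ≫ pullback.snd φ'.left φ'.left) ≫ X'.hom = R₁ ≫ (G ⊗ X).hom
    refine (congrArg (_ ≫ ·) (Over.w pr).symm).trans ?_
    refine ((Category.assoc _ _ _).symm).trans ((congrArg (· ≫ X.hom) hsnd.symm).trans ?_)
    rw [Category.assoc, Over.w (snd G X)])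
  let q : T ⟶ G ⊗ X' := lift (P ≫ fst G X) x₂
  have hq1 : q ≫ (G ◁ pr) = P := by
    refine CartesianMonoidalCategory.hom_ext _ _ (by simp [q]) ?_
    rw [Category.assoc, whiskerLeft_snd, ← Category.assoc, lift_snd]
    exact Over.OverMorphism.ext hsnd.symm
  have key : q.left ≫ GIT.PsiY a' φ' hi = R₂ := by
    refine pullback.hom_ext ?_ ?_
    · rw [GIT.PsiY, Category.assoc, pullback.lift_fst]
      refine (sq.map (Over.forget S)).hom_ext ?_ ?_
      · show (q.left ≫ a'.act.left) ≫ pr.left = (R₂ ≫ pullback.fst φ'.left φ'.left) ≫ pr.left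
        rw [← hfst, Category.assoc, ← Over.comp_left, ha, ← Over.comp_left, ← Category.assoc, hq1]
        rfl
      · show (q.left ≫ a'.act.left) ≫ φ'.left = (R₂ ≫ pullback.fst φ'.left φ'.left) ≫ φ'.left
        rw [Category.assoc, Category.assoc, pullback.condition, hi.left, ← Category.assoc, ← Category.assoc R₂,
          ← Over.comp_left, show q ≫ snd G X' = x₂ from lift_snd _ _]
        rfl
    · rw [GIT.PsiY, Category.assoc, pullback.lift_snd, ← Over.comp_left, show q ≫ snd G X' = x₂ from lift_snd _ _]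
      rfl
  exact ⟨q.left r, by rw [← Scheme.Hom.comp_apply, key]; exact hr2⟩

end Groth.Agent.GITQuot.UnivCat
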